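import Mathlib
import Cfsg.Agent.H221.CS.Basic
import Cfsg.Agent.H902.Names
import Cfsg.Agent.H370.AAM.OutP
import Cfsg.Agent.H494.CS.SporArith

/-!
# S3677, rows `PSp(2n, q)`, `PΩ(2n + 1, q)`, E3: `S` is not sporadic and not the Tits group (helper494)
-/

set_option autoImplicit false

namespace Cfsg.Agent.H494.CS

open Subgroup Cfsg Cfsg.Agent.OrdDiv Cfsg.Agent.H902 Cfsg.Agent.H902.Names Cfsg.Agent.H221.CS
open Cfsg.Agent.H364.SpVal Cfsg.Agent.H364.SpSmall Cfsg.Agent.H364.SpIneq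

universe u

/-- `|Out S| ≤ 2` -/
theorem out_le {S : Type u} [Group S] [Finite S] [IsSimpleGroup S] (hna : ¬ ∀ a b : S, a * b = b * a) {x : Grp × ℕ}
    (hx : x ∈ spor) (hr : OrdDiv.Real x.1 S) : Nat.card (Cfsg.Out S) ≤ 2 := by
  unfold spor at hx
  simp only [List.mem_cons, List.not_mem_nil, or_false] at hx
  rcases hx with rfl | hx
  · exact H370.AAM.out_tits hna hr
  · apply H370.AAM.out_sporadic
    unfold Cfsg.IsSporadicGroup
    rcases hx with rfl | rfl | rfl | rfl | rfl | rfl | rfl | rfl | rfl | rfl | rfl | rfl | rfl | rfl | rfl | rfl |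
      rfl | rfl | rfl | rfl | rfl | rfl | rfl | rfl | rfl | rfl <;>
    · change _ at hr
      simp only [OrdDiv.Real] at hr
      tauto

variable {n p f M κ : ℕ} {Γ : Type u} [Group Γ] [Finite Γ] {S : Subgroup Γ}

/-- **E3.** -/
theorem no_spor (h : Dat n p f M κ Γ S) (h32 : ¬ (n = 3 ∧ p ^ f = 2)) {x : Grp × ℕ} (hx : x ∈ spor)
    (hr : OrdDiv.Real x.1 S) (hc : Nat.card S = x.2) : False := by
  have hsim := h.simple
  have hq := h.q_ge
  have hn := h.hn
  have hN : Nat.card S ∈ NL := hc ▸ mem_NL x hx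
  have hI : S.index ∣ 2 := by
    have h1 := h.index_dvd
    have h2 := out_le h.nonab hx hr
    have h3 : 0 < Nat.card (Cfsg.Out S) := by
      by_contra hcon
      have h4 : Nat.card (Cfsg.Out S) = 0 := by omega
      have h5 : Finite (Cfsg.Out S) := by
        have : Finite (MulAut S) := Finite.of_injective (fun f : MulAut S => (f : S → S)) DFunLike.coe_injective
        unfold Cfsg.Out
        infer_instance
      exact Nat.card_pos.ne' h4
    have h4 : Nat.card (Cfsg.Out S) ∣ 2 := by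
      interval_cases Nat.card (Cfsg.Out S) <;> norm_num
    exact h1.trans h4
  have heq : Nat.gcd 2 (p ^ f - 1) * M = (p ^ f) ^ n ^ 2 * AA n (p ^ f) := h.hY.eq
  have hM : Nat.card S ∣ (p ^ f) ^ n ^ 2 * AA n (p ^ f) := by
    rw [← heq]
    exact h.pi.trans (dvd_mul_left _ _)
  have hd : Nat.gcd 2 (p ^ f - 1) * (Nat.card S * S.index) ∣ 4 * Nat.card S := by
    have h1 : Nat.gcd 2 (p ^ f - 1) ∣ 2 := Nat.gcd_dvd_left _ _
    have h2 := Nat.mul_dvd_mul h1 (Nat.mul_dvd_mul (dvd_refl (Nat.card S)) hI)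
    refine h2.trans (dvd_of_eq ?_)
    ring
  by_cases h5 : 5 ≤ n
  · exact arith h5 hq hN hI (h.fr h32) hM
  by_cases h4 : n = 4
  · subst h4
    exact arith4 hq hN ((h.AA_dvd le_rfl h32).trans hd) hM
  have h3 : n = 3 := by omega
  subst h3
  refine arith3 hq hN ?_ hM
  obtain ⟨j, hj, hk⟩ := h.kap_pow (by norm_num) h32
  have hcard := h.card_eq
  rw [← hcard, hk] at heq
  have hq0 : 0 < (p ^ f) ^ 6 := pow_pos (by omega) _
  refine dvd_trans ?_ hd
  have hj1 : j = 0 ∨ j = 1 := by omega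
  rcases hj1 with rfl | rfl
  · have e : Nat.gcd 2 (p ^ f - 1) * (Nat.card S * S.index) = (p ^ f) ^ 3 * AA 3 (p ^ f) * (p ^ f) ^ 6 := by
      rw [mul_zero, pow_zero, one_mul] at heq
      rw [heq]
      ring
    rw [e]
    exact dvd_mul_right _ _
  · have e : (p ^ f) ^ 6 * (Nat.gcd 2 (p ^ f - 1) * (Nat.card S * S.index)) =
        (p ^ f) ^ 6 * ((p ^ f) ^ 3 * AA 3 (p ^ f)) := by
      calc (p ^ f) ^ 6 * (Nat.gcd 2 (p ^ f - 1) * (Nat.card S * S.index))
          = Nat.gcd 2 (p ^ f - 1) * ((p ^ f) ^ (2 * 3 * 1) * (Nat.card S * S.index)) := by ring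
        _ = (p ^ f) ^ 3 ^ 2 * AA 3 (p ^ f) := heq
        _ = _ := by ring
    rw [Nat.eq_of_mul_eq_mul_left hq0 e]

end Cfsg.Agent.H494.CS
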